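import Groth.Agent.Ega2.DVRDominate
import Mathlib.RingTheory.AlgebraicIndependent.Basic
import Mathlib.RingTheory.Polynomial.Basic
import Mathlib.FieldTheory.PrimeField
import Mathlib.Data.Nat.Prime.Int
import Mathlib.Algebra.Field.ZMod
import Mathlib.Algebra.Algebra.ZMod

/-!
# Discrete valuation rings with residue characteristic `p` and algebraically independent residues

`K` a field of characteristic zero, `c` a finite family of elements of `K` algebraically independent over `ℤ`, `K`
finitely generated over the field generated by `c`: there is a discrete valuation ring of `K` containing `c`, with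
residue field of characteristic `p`, in which the residues of `c` are algebraically independent over the prime
field.
-/

set_option autoImplicit false

open IsLocalRing

namespace Groth.Agent.Lefpen.H872.Dvr

/-- `ℤ` surjects onto the prime field in characteristic `p`. -/
theorem intCast_bot_surjective (F : Type*) [Field F] (p : ℕ) [Fact p.Prime] [CharP F p] :
    Function.Surjective (Int.castRingHom (⊥ : Subfield F)) := by
  rintro ⟨x, hx⟩
  let _ : Algebra (ZMod p) F := ZMod.algebra F p
  rw [Subfield.bot_eq_of_zMod_algebra p] at hx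
  obtain ⟨y, rfl⟩ := hx
  obtain ⟨n, rfl⟩ := ZMod.intCast_surjective y
  refine ⟨n, Subtype.ext ?_⟩
  simp

variable {ι : Type*}

theorem isPrime_span_C (p : ℕ) [hp : Fact p.Prime] :
    (Ideal.span {(MvPolynomial.C (p : ℤ) : MvPolynomial ι ℤ)}).IsPrime := by
  rw [Ideal.span_singleton_prime]
  · exact (MvPolynomial.prime_C_iff ι).2 (Nat.prime_iff_prime_int.1 hp.out)
  · intro h
    rw [MvPolynomial.C_eq_zero] at h
    exact hp.out.ne_zero (by exact_mod_cast h)

/-- The discrete valuation ring of residue characteristic `p`. -/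
theorem exists_dvr {K : Type*} [Field K] [CharZero K] (p : ℕ) [hp : Fact p.Prime] [Finite ι]
    (c : ι → K) (hc : AlgebraicIndependent ℤ c) (S : Finset K)
    (hS : Subfield.closure (Set.range c ∪ S) = ⊤) :
    ∃ (V : ValuationSubring K) (_ : IsDiscreteValuationRing V) (hcV : ∀ i, c i ∈ V)
      (_ : CharP (ResidueField V) p),
      AlgebraicIndependent (⊥ : Subfield (ResidueField V)) (fun i => residue V ⟨c i, hcV i⟩) := by
  let P := MvPolynomial ι ℤ
  let I : Ideal P := Ideal.span {(MvPolynomial.C (p : ℤ) : P)}
  have hI : I.IsPrime := isPrime_span_C p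
  let A := Localization.AtPrime I
  have hu : ∀ y : I.primeCompl, IsUnit ((MvPolynomial.aeval c : P →ₐ[ℤ] K).toRingHom y) := by
    rintro ⟨y, hy⟩
    rw [isUnit_iff_ne_zero]
    intro h0
    apply hy
    have h1 : y = 0 := hc (by rw [map_zero]; exact h0)
    rw [h1]
    exact I.zero_mem
  let φ : A →+* K := IsLocalization.lift (M := I.primeCompl) hu
  have hφ : ∀ x : P, φ (algebraMap P A x) = MvPolynomial.aeval c x := fun x =>
    IsLocalization.lift_eq hu x
  have hφinj : Function.Injective φ := by
    rw [injective_iff_map_eq_zero]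
    intro a ha
    obtain ⟨x, s, rfl⟩ := IsLocalization.exists_mk'_eq I.primeCompl a
    rw [IsLocalization.lift_mk'] at ha
    have hx : (MvPolynomial.aeval c x : K) = 0 := by
      rcases mul_eq_zero.1 ha with h | h
      · exact h
      · exact absurd h (Units.ne_zero _)
    have h1 : x = 0 := hc (by rw [map_zero]; exact hx)
    rw [h1, IsLocalization.mk'_zero]
  let _ : Algebra A K := φ.toAlgebra
  have hNA : IsNoetherianRing A := IsLocalization.isNoetherianRing I.primeCompl A inferInstance
  have hmem : ∀ x : P, algebraMap P A x ∈ maximalIdeal A ↔ x ∈ I := fun x =>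
    IsLocalization.AtPrime.to_map_mem_maximal_iff A I x
  have hpA : algebraMap P A (MvPolynomial.C (p : ℤ)) ∈ maximalIdeal A :=
    (hmem _).2 (Ideal.subset_span rfl)
  have hA : maximalIdeal A ≠ ⊥ := by
    intro h
    rw [h, Ideal.mem_bot] at hpA
    have h1 := hφ (MvPolynomial.C (p : ℤ))
    rw [hpA, map_zero, MvPolynomial.aeval_C] at h1
    simp only [algebraMap_int_eq, eq_intCast, Int.cast_natCast] at h1
    exact hp.out.ne_zero (by exact_mod_cast h1.symm)
  obtain ⟨V, hV, hAV, hVm⟩ := Ega2.DVRDominate.exists_dvr_of_isLocalRing (A := A) (K := K) hφinj hA S (by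
    rw [eq_top_iff, ← hS, Subfield.closure_le]
    rintro x (⟨i, rfl⟩ | hx)
    · refine Subfield.subset_closure (Or.inl ⟨algebraMap P A (MvPolynomial.X i), ?_⟩)
      exact (hφ _).trans (MvPolynomial.aeval_X c i)
    · exact Subfield.subset_closure (Or.inr hx))
  have hPV : ∀ x : P, (MvPolynomial.aeval c x : K) ∈ V := fun x => by
    rw [← hφ x]
    exact hAV _
  have hPn : ∀ x : P, (MvPolynomial.aeval c x : K) ∈ V.nonunits ↔ x ∈ I := fun x => by
    rw [← hφ x]
    exact (hVm _).trans (hmem x)
  have hcV : ∀ i, c i ∈ V := fun i => by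
    have := hPV (MvPolynomial.X i)
    rwa [MvPolynomial.aeval_X] at this
  have hres : ∀ x : P, residue V ⟨MvPolynomial.aeval c x, hPV x⟩ = 0 ↔ x ∈ I := by
    intro x
    rw [residue_eq_zero_iff, ← hPn x, ValuationSubring.mem_nonunits_iff_exists_mem_maximalIdeal]
    exact ⟨fun h => ⟨_, h⟩, fun ⟨_, h⟩ => h⟩
  have hcomp : ∀ x : P, residue V ⟨MvPolynomial.aeval c x, hPV x⟩ =
      MvPolynomial.aeval (fun i => residue V ⟨c i, hcV i⟩) x := by
    intro x
    let ψ : P →+* V := (MvPolynomial.aeval (fun i => (⟨c i, hcV i⟩ : V))).toRingHom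
    have h1 : ∀ x, (ψ x : K) = MvPolynomial.aeval c x := by
      intro x
      have h2 : (algebraMap V K).comp ψ = (MvPolynomial.aeval c : P →ₐ[ℤ] K).toRingHom := by
        apply MvPolynomial.ringHom_ext
        · intro n
          simp
        · intro i
          simp only [ψ, AlgHom.toRingHom_eq_coe, RingHom.coe_comp, RingHom.coe_coe, Function.comp_apply,
            MvPolynomial.aeval_X]
          rfl
      exact congrArg (fun f : P →+* K => f x) h2
    have h3 : (⟨MvPolynomial.aeval c x, hPV x⟩ : V) = ψ x := Subtype.ext (h1 x).symm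
    rw [h3]
    have h4 : (residue V).comp ψ =
        (MvPolynomial.aeval (fun i => residue V ⟨c i, hcV i⟩) : P →ₐ[ℤ] _).toRingHom := by
      apply MvPolynomial.ringHom_ext
      · intro n
        simp
      · intro i
        simp [ψ]
    exact congrArg (fun f : P →+* _ => f x) h4
  have hchar : CharP (ResidueField V) p := by
    rw [CharP.charP_iff_prime_eq_zero hp.out]
    have h1 := (hres (MvPolynomial.C (p : ℤ))).2 (Ideal.subset_span rfl)
    rw [hcomp, MvPolynomial.aeval_C] at h1
    simpa using h1
  refine ⟨V, hV, hcV, hchar, ?_⟩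
  rw [algebraicIndependent_iff]
  intro f hf
  obtain ⟨g, rfl⟩ := MvPolynomial.map_surjective _
    (intCast_bot_surjective (ResidueField V) p) f
  rw [MvPolynomial.aeval_def, MvPolynomial.eval₂_map] at hf
  have h1 : (algebraMap (⊥ : Subfield (ResidueField V)) (ResidueField V)).comp
      (Int.castRingHom (⊥ : Subfield (ResidueField V))) = algebraMap ℤ (ResidueField V) :=
    RingHom.ext_int _ _
  rw [h1, ← MvPolynomial.aeval_def, ← hcomp, hres] at hf
  obtain ⟨b, rfl⟩ := Ideal.mem_span_singleton'.1 hf
  rw [map_mul, MvPolynomial.map_C]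
  have h2 : Int.castRingHom (⊥ : Subfield (ResidueField V)) (p : ℤ) = 0 := by
    apply Subtype.ext
    simp
  rw [h2, map_zero, mul_zero]

end Groth.Agent.Lefpen.H872.Dvr
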