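import Groth.Agent.Lefpen.H872.RelCI
import Groth.Agent.Ega3B.ProjProper

/-!
# The standard charts of a relative complete intersection; base change

`Y G = (rciIdeal G).subscheme ⊆ P^N_R`, `yStr G : Y G ⟶ Spec R`, proper.

* `toY G j : R[x_1..x_N] → Γ(Y, Y ∩ D_+(T_j))`: surjective, with kernel generated by the dehomogenized forms.
* `comap_rciIdeal`, `rMap`, `isPullback_rMap`, `isPullback_rMap_yStr`, `nonempty_pull_twist`: base change along any ring
  homomorphism.
-/

set_option autoImplicit false
universe u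

open CategoryTheory AlgebraicGeometry Limits TopologicalSpace Opposite

namespace Groth.Agent.Lefpen.H872.RelBase

open Groth.Agent.Divis.IdealComap Groth.Agent.Fdesc.LocGen Groth.Agent.Lefpen.H872.RelCI
open Groth.Agent.Sga5 Groth.Agent.CohqB.ProjBC

section Charts

variable {N d : ℕ} {k : Type u} [CommRing k] {a : Fin d → ℕ} (G : ∀ j : Fin d, RForm N k (a j))

/-- The scheme of common zeros. -/
noncomputable abbrev Y : Scheme.{u} := (rciIdeal G).subscheme

/-- The closed immersion. -/
noncomputable abbrev yι : Y G ⟶ CohB1.ProjSpace N k := (rciIdeal G).subschemeι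

/-- The structure morphism. -/
noncomputable abbrev yStr : Y G ⟶ Spec (CommRingCat.of k) := (rciIdeal G).subschemeι ≫ CohB1.ProjSpace.toSpec N k

/-- The chart `Y ∩ D_+(T_j)`. -/
noncomputable abbrev ychart (j : Fin (N + 1)) : (Y G).Opens := yι G ⁻¹ᵁ rchart N k j

theorem isClosedImmersion_yι : IsClosedImmersion (yι G) := inferInstance

theorem isAffineOpen_ychart (j : Fin (N + 1)) : IsAffineOpen (ychart G j) :=
  (isAffineOpen_rchart j).preimage (yι G)

theorem rciIdeal_ideal_of_le (j : Fin (N + 1)) (U : (CohB1.ProjSpace N k).affineOpens)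
    (hU : U.1 ≤ rchart N k j) :
    (rciIdeal G).ideal U = Ideal.span (Set.range fun i => ores hU (rdehom (G i) j)) := by
  rw [rciIdeal, Scheme.IdealSheafData.ideal_iSup, iSup_apply]
  simp_rw [rhypIdeal_ideal_of_le _ j U hU]
  rw [← Ideal.span_iUnion]
  congr 1
  ext x
  simp [eq_comm]

/-- Polynomials in the affine coordinates as functions on `Y ∩ D_+(T_j)`. -/
noncomputable def toY (j : Fin (N + 1)) : MvPolynomial (Fin N) k →+* Γ(Y G, ychart G j) :=
  ((yι G).app (rchart N k j)).hom.comp (polyToChart j)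

theorem toY_surjective (j : Fin (N + 1)) : Function.Surjective (toY G j) :=
  ((rciIdeal G).subschemeι_app_surjective ⟨rchart N k j, isAffineOpen_rchart j⟩).comp
    (polyToChart_bijective j).2

theorem ker_toY (j : Fin (N + 1)) :
    RingHom.ker (toY G j) = Ideal.span (Set.range fun i => ProjChart.dehom N k j (G i).1) := by
  have h1 : RingHom.ker ((yι G).app (rchart N k j)).hom = Ideal.span (Set.range fun i => rdehom (G i) j) := by
    have h2 := (rciIdeal G).ker_subschemeι_app ⟨rchart N k j, isAffineOpen_rchart j⟩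
    rw [rciIdeal_ideal_of_le G j _ le_rfl] at h2
    refine h2.trans ?_
    congr 3
  have h4 : RingHom.ker (toY G j) = Ideal.comap (polyToChart j) (RingHom.ker ((yι G).app (rchart N k j)).hom) := rfl
  rw [h4, h1]
  have h3 : Ideal.span (Set.range fun i => rdehom (G i) j) =
      Ideal.map (polyToChart j) (Ideal.span (Set.range fun i => ProjChart.dehom N k j (G i).1)) := by
    rw [Ideal.map_span, ← Set.range_comp]
    congr 2
    funext i
    exact dehom_eq (G i) j
  rw [h3, Ideal.comap_map_of_bijective _ (polyToChart_bijective j)]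

theorem appLE_chart_injective (j : Fin (N + 1)) : Function.Injective
    ((ProjSmooth.chart N k j).appLE (rchart N k j) ⊤ (top_le_preimage j)).hom := by
  intro x y hxy
  obtain ⟨p, rfl⟩ := (polyToChart_bijective j).2 x
  obtain ⟨q, rfl⟩ := (polyToChart_bijective j).2 y
  rw [chart_appLE_polyToChart, chart_appLE_polyToChart] at hxy
  have h := (ConcreteCategory.bijective_of_isIso
    (Scheme.ΓSpecIso (CommRingCat.of (MvPolynomial (Fin N) k))).inv).1 hxy
  rw [h]

theorem appLE_top_eq {X Z : Scheme.{u}} (p q : X ⟶ Z) (h : p = q) (e : (⊤ : X.Opens) ≤ p ⁻¹ᵁ ⊤) :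
    p.appLE ⊤ ⊤ e = q.appTop := by
  subst h
  exact (Scheme.Hom.app_eq_appLE p).symm

theorem toSpec_appLE (j : Fin (N + 1)) (c : k) :
    ((CohB1.ProjSpace.toSpec N k).appLE ⊤ (rchart N k j) le_top).hom
      ((Scheme.ΓSpecIso (CommRingCat.of k)).inv.hom c) = polyToChart j (MvPolynomial.C c) := by
  apply appLE_chart_injective j
  rw [chart_appLE_polyToChart]
  have h1 := Scheme.Hom.appLE_comp_appLE (ProjSmooth.chart N k j) (CohB1.ProjSpace.toSpec N k)
    ⊤ (rchart N k j) ⊤ le_top (top_le_preimage j)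
  have h2 := congr($(h1).hom ((Scheme.ΓSpecIso (CommRingCat.of k)).inv.hom c))
  refine h2.trans ?_
  rw [appLE_top_eq _ _ (ProjSmooth.chart_toSpec N k j)]
  exact congr($(Scheme.ΓSpecIso_inv_naturality (CommRingCat.ofHom (MvPolynomial.C : k →+* MvPolynomial (Fin N) k))).hom c).symm

theorem yStr_appLE (j : Fin (N + 1)) (c : k) :
    ((yStr G).appLE ⊤ (ychart G j) le_top).hom ((Scheme.ΓSpecIso (CommRingCat.of k)).inv.hom c) =
      toY G j (MvPolynomial.C c) := by
  have h1 := Scheme.Hom.appLE_comp_appLE (yι G) (CohB1.ProjSpace.toSpec N k)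
    ⊤ (rchart N k j) (ychart G j) le_top le_rfl
  have h2 := congr($(h1).hom ((Scheme.ΓSpecIso (CommRingCat.of k)).inv.hom c))
  refine h2.symm.trans ?_
  change ((yι G).appLE (rchart N k j) (ychart G j) le_rfl).hom
    (((CohB1.ProjSpace.toSpec N k).appLE ⊤ (rchart N k j) le_top).hom
      ((Scheme.ΓSpecIso (CommRingCat.of k)).inv.hom c)) = _
  rw [toSpec_appLE, ← Scheme.Hom.app_eq_appLE]
  rfl

/-- The structure map of the chart ring of `Y`. -/
noncomputable def strMap (j : Fin (N + 1)) : k →+* Γ(Y G, ychart G j) := (toY G j).comp MvPolynomial.C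


instance isProper_yStr : IsProper (yStr G) := by
  have h1 : IsProper (CohB1.ProjSpace.toSpec N k) := Groth.Agent.Ega3B.ProjProper.isProper_toSpec N k
  have h2 : IsProper (yι G) := inferInstance
  exact MorphismProperty.comp_mem @IsProper _ _ h2 h1

end Charts

section BaseChange

variable {A B : Type u} [CommRing A] [CommRing B] (φ : A →+* B) {r : ℕ}

/-- The image of a form under a ring homomorphism. -/
noncomputable def mapForm {d : ℕ} (G : RForm r A d) : RForm r B d :=
  ⟨MvPolynomial.map φ G.1, (gmap φ r).map_mem G.2⟩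

@[simp] lemma mapForm_val {d : ℕ} (G : RForm r A d) : (mapForm φ G).1 = MvPolynomial.map φ G.1 := rfl

lemma preimage_chart (j : Fin (r + 1)) : pmap φ r ⁻¹ᵁ rchart r A j = rchart r B j := by
  have h : pmap φ r ⁻¹ᵁ rchart r A j =
      Proj.basicOpen (CohB1.polyGrading r B) (gmap φ r (MvPolynomial.X j)) :=
    Proj.map_preimage_basicOpen (gmap φ r) (irrelevant_le φ r) _
  rw [h, gmap_apply, MvPolynomial.map_X]

lemma appLE_dehom {d : ℕ} (G : RForm r A d) (j : Fin (r + 1)) :
    (pmap φ r).appLE (rchart r A j) (rchart r B j) (preimage_chart φ j).ge (rdehom G j) =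
      rdehom (mapForm φ G) j := by
  have key : ∀ (s : MvPolynomial (Fin (r + 1)) B) (hs : gmap φ r (MvPolynomial.X j) = s)
      (hs1 : s ∈ CohB1.polyGrading r B 1)
      (e : Proj.basicOpen (CohB1.polyGrading r B) s ≤ pmap φ r ⁻¹ᵁ rchart r A j),
      (pmap φ r).appLE (rchart r A j) (Proj.basicOpen (CohB1.polyGrading r B) s) e (rdehom G j) =
        (Proj.awayToSection (CohB1.polyGrading r B) s).hom
          (HomogeneousLocalization.Away.mk (CohB1.polyGrading r B) hs1 d (mapForm φ G).1
            (by rw [smul_eq_mul, mul_one]; exact (mapForm φ G).2)) := by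
    intro s hs hs1 e
    subst hs
    have h1 := Proj.awayToSection_comp_appLE (gmap φ r) (irrelevant_le φ r) (RelCI.X_mem r A j)
    have h2 := ConcreteCategory.congr_hom h1
      (HomogeneousLocalization.Away.mk (CohB1.polyGrading r A) (RelCI.X_mem r A j) d G.1
        (by rw [smul_eq_mul, mul_one]; exact G.2))
    refine h2.trans ?_
    change (Proj.awayToSection (CohB1.polyGrading r B) _).hom
      (HomogeneousLocalization.Away.map (gmap φ r) _ _) = _
    rw [HomogeneousLocalization.Away.map_mk]
    rfl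
  exact key (MvPolynomial.X j) (by simp) (RelCI.X_mem r B j) _

/-- **The ideal of a hypersurface is compatible with base change.** -/
theorem comap_rhypIdeal {d : ℕ} (G : RForm r A d) :
    (rhypIdeal G).comap (pmap φ r) = rhypIdeal (mapForm φ G) := by
  refine Scheme.IdealSheafData.ext_of_iSup_eq_top
    (fun j : Fin (r + 1) ↦ (⟨rchart r B j, isAffineOpen_rchart j⟩ :
      (CohB1.ProjSpace r B).affineOpens)) iSup_rchart fun j ↦ ?_
  rw [ideal_comap (rhypIdeal G) (pmap φ r) ⟨rchart r A j, isAffineOpen_rchart j⟩ _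
    (preimage_chart φ j).ge, rhypIdeal_ideal_of_le G j _ le_rfl,
    rhypIdeal_ideal_of_le (mapForm φ G) j _ le_rfl, Ideal.map_span, Set.image_singleton,
    ores_refl, ores_refl]
  congr 2
  exact appLE_dehom φ G j

/-- **The ideal of a complete intersection is compatible with base change.** -/
theorem comap_rciIdeal {ι : Type} {a : ι → ℕ} (G : ∀ j, RForm r A (a j)) :
    (rciIdeal G).comap (pmap φ r) = rciIdeal (fun j ↦ mapForm φ (G j)) := by
  unfold rciIdeal
  rw [(Scheme.IdealSheafData.map_gc (pmap φ r)).l_iSup]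
  exact iSup_congr fun j ↦ comap_rhypIdeal φ (G j)

/-- **Base change of complete intersections**: `V(φ G) = V(G) ×_{P^r_A} P^r_B`. -/
theorem exists_isPullback {ι : Type} {a : ι → ℕ} (G : ∀ j, RForm r A (a j))
    (G' : ∀ j, RForm r B (a j)) (hG : ∀ j, G' j = mapForm φ (G j)) :
    ∃ π : (rciIdeal G').subscheme ⟶ (rciIdeal G).subscheme,
      IsPullback (rciIdeal G').subschemeι π (pmap φ r) (rciIdeal G).subschemeι := by
  have h1 : rciIdeal G' = (rciIdeal G).comap (pmap φ r) := by
    rw [comap_rciIdeal]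
    congr 1
    funext j
    exact hG j
  rw [h1]
  exact ⟨_, Groth.Agent.Lefpen.H21.CiBase.isPullback_comap (rciIdeal G) (pmap φ r)⟩

/-- The projection `V(φ G) ⟶ V(G)`. -/
noncomputable def rMap {ι : Type} {a : ι → ℕ} (G : ∀ j, RForm r A (a j))
    (G' : ∀ j, RForm r B (a j)) (hG : ∀ j, G' j = mapForm φ (G j)) :
    (rciIdeal G').subscheme ⟶ (rciIdeal G).subscheme :=
  (exists_isPullback φ G G' hG).choose

section

variable {ι : Type} {a : ι → ℕ} (G : ∀ j, RForm r A (a j)) (G' : ∀ j, RForm r B (a j))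
  (hG : ∀ j, G' j = mapForm φ (G j))

theorem isPullback_rMap :
    IsPullback (rciIdeal G').subschemeι (rMap φ G G' hG) (pmap φ r) (rciIdeal G).subschemeι :=
  (exists_isPullback φ G G' hG).choose_spec

@[reassoc]
theorem rMap_subschemeι : rMap φ G G' hG ≫ (rciIdeal G).subschemeι =
    (rciIdeal G').subschemeι ≫ pmap φ r := (isPullback_rMap φ G G' hG).w.symm

/-- **Base change of complete intersections**: `V(φ G) = V(G) ×_A B`. -/
theorem isPullback_rMap_toSpec :
    IsPullback (rMap φ G G' hG) ((rciIdeal G').subschemeι ≫ CohB1.ProjSpace.toSpec r B)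
      ((rciIdeal G).subschemeι ≫ CohB1.ProjSpace.toSpec r A)
      (Spec.map (CommRingCat.ofHom φ)) :=
  (isPullback_rMap φ G G' hG).flip.paste_vert (isPullback_pmap φ r)

/-- `O_{V(G)}(e)` pulls back to `O_{V(φ G)}(e)`. -/
theorem nonempty_pull_twist (e : ℤ) :
    Nonempty ((Scheme.Modules.pullback (rMap φ G G' hG)).obj
        ((Scheme.Modules.pullback (rciIdeal G).subschemeι).obj (Twist.twistProjSpace r A e)) ≅
      (Scheme.Modules.pullback (rciIdeal G').subschemeι).obj (Twist.twistProjSpace r B e)) :=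
  ⟨(Scheme.Modules.pullbackComp (rMap φ G G' hG) (rciIdeal G).subschemeι).app _ ≪≫
    (Scheme.Modules.pullbackCongr (rMap_subschemeι φ G G' hG)).app _ ≪≫
    ((Scheme.Modules.pullbackComp (rciIdeal G').subschemeι (pmap φ r)).app _).symm ≪≫
    (Scheme.Modules.pullback (rciIdeal G').subschemeι).mapIso
      (Groth.Agent.Ega3A.PChart.pullTwistIso φ r e)⟩

end

end BaseChange

end Groth.Agent.Lefpen.H872.RelBase
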