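import Mathlib.RingTheory.AlgebraicIndependent.Basic
import Mathlib.Algebra.Field.Subfield.Basic
import Mathlib.FieldTheory.PrimeField
import Mathlib.RingTheory.MvPolynomial.Homogeneous
import Groth.Agent.Lefpen.H872.RelBase

/-!
# Algebraic independence over the prime field under homomorphisms of fields; forms over subrings

* `indep_map_iff`: `x` is algebraically independent over the prime field iff `φ ∘ x` is.
* `indep_int`: in characteristic zero it is then algebraically independent over `ℤ`.
* `exists_mapForm_eq`: a form whose coefficients are in the image of an injective ring homomorphism comes from a form.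
-/

set_option autoImplicit false
universe u

namespace Groth.Agent.Lefpen.H872.Indep

open Groth.Agent.Lefpen.H872.RelCI Groth.Agent.Lefpen.H872.RelBase Groth.Agent.CohqB.ProjBC

/-- The isomorphism of prime fields. -/
theorem exists_bot_equiv {A B : Type*} [Field A] [Field B] (φ : A →+* B) :
    ∃ σ : (⊥ : Subfield A) →+* (⊥ : Subfield B), Function.Surjective σ ∧ ∀ x, ((σ x : (⊥ : Subfield B)) : B) = φ x := by
  refine ⟨(φ.comp (⊥ : Subfield A).subtype).codRestrict (⊥ : Subfield B).toSubring ?_, ?_, fun x => rfl⟩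
  · intro x
    change φ x ∈ (⊥ : Subfield B)
    rw [← Subfield.map_bot φ]
    exact ⟨x, x.2, rfl⟩
  · rintro ⟨y, hy⟩
    rw [← Subfield.map_bot φ] at hy
    obtain ⟨x, hx, rfl⟩ := hy
    exact ⟨⟨x, hx⟩, rfl⟩

theorem indep_map_iff {A B : Type*} [Field A] [Field B] (φ : A →+* B) {ι : Type*} (x : ι → A) :
    AlgebraicIndependent (⊥ : Subfield B) (fun i => φ (x i)) ↔ AlgebraicIndependent (⊥ : Subfield A) x := by
  obtain ⟨σ, hσs, hσ⟩ := exists_bot_equiv φ
  have key : ∀ f : MvPolynomial ι (⊥ : Subfield A),
      MvPolynomial.aeval (fun i => φ (x i)) (MvPolynomial.map σ f) = φ (MvPolynomial.aeval x f) := by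
    intro f
    rw [MvPolynomial.aeval_def, MvPolynomial.eval₂_map, MvPolynomial.aeval_def,
      MvPolynomial.eval₂_comp_left φ]
    have h1 : (algebraMap (⊥ : Subfield B) B).comp σ = φ.comp (algebraMap (⊥ : Subfield A) A) :=
      RingHom.ext hσ
    rw [h1]
    rfl
  rw [algebraicIndependent_iff, algebraicIndependent_iff]
  constructor
  · intro h f hf
    have h1 := h (MvPolynomial.map σ f) (by rw [key, hf, map_zero])
    exact (map_eq_zero_iff _ (MvPolynomial.map_injective σ σ.injective)).1 h1
  · intro h f hf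
    obtain ⟨g, rfl⟩ := MvPolynomial.map_surjective σ hσs f
    rw [key, map_eq_zero_iff _ φ.injective] at hf
    rw [h g hf, map_zero]

theorem indep_int {A : Type*} [Field A] [CharZero A] {ι : Type*} (x : ι → A)
    (hx : AlgebraicIndependent (⊥ : Subfield A) x) : AlgebraicIndependent ℤ x := by
  rw [algebraicIndependent_iff] at hx ⊢
  intro f hf
  have hinj : Function.Injective (Int.castRingHom (⊥ : Subfield A)) := by
    intro a b hab
    have h1 := congrArg (fun z : (⊥ : Subfield A) => (z : A)) hab
    simpa using h1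
  have h2 := hx (MvPolynomial.map (Int.castRingHom (⊥ : Subfield A)) f) (by
    rw [MvPolynomial.aeval_def, MvPolynomial.eval₂_map, ← hf, MvPolynomial.aeval_def]
    congr 1)
  exact (map_eq_zero_iff _ (MvPolynomial.map_injective _ hinj)).1 h2

section Forms

variable {A B C : Type u} [CommRing A] [CommRing B] [CommRing C] (φ : A →+* B) (ψ : B →+* C) {r : ℕ}

theorem mapForm_mapForm {d : ℕ} (G : RForm r A d) : mapForm ψ (mapForm φ G) = mapForm (ψ.comp φ) G := by
  apply Subtype.ext
  rw [mapForm_val, mapForm_val, mapForm_val, MvPolynomial.map_map]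

theorem coeff_mapForm {d : ℕ} (G : RForm r A d) (m : Fin (r + 1) →₀ ℕ) :
    MvPolynomial.coeff m (mapForm φ G).1 = φ (MvPolynomial.coeff m G.1) := by
  rw [mapForm_val, MvPolynomial.coeff_map]

/-- A form with coefficients in the image of the injective `φ` comes from a form over the source. -/
theorem exists_mapForm_eq (hφ : Function.Injective φ) {d : ℕ} (G' : RForm r B d)
    (h : ∀ m : Fin (r + 1) →₀ ℕ, m.degree = d → MvPolynomial.coeff m G'.1 ∈ Set.range φ) :
    ∃ G : RForm r A d, G' = mapForm φ G := by
  classical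
  have h1 : G'.1 ∈ Set.range (MvPolynomial.map (σ := Fin (r + 1)) φ) := by
    rw [MvPolynomial.mem_range_map_iff_coeffs_subset]
    rintro _ hx
    obtain ⟨m, hm, rfl⟩ := MvPolynomial.mem_coeffs_iff.1 hx
    refine h m ?_
    have h2 : G'.1.IsHomogeneous d := (MvPolynomial.mem_homogeneousSubmodule _ _).1 G'.2
    have h3 := h2 (MvPolynomial.mem_support_iff.1 hm)
    rw [Finsupp.degree_eq_weight_one]
    exact h3
  obtain ⟨q, hq⟩ := h1
  have hd : q ∈ CohB1.polyGrading r A d := by
    rw [CohB1.polyGrading, MvPolynomial.mem_homogeneousSubmodule]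
    have h2 : G'.1.IsHomogeneous d := (MvPolynomial.mem_homogeneousSubmodule _ _).1 G'.2
    rw [← hq] at h2
    exact MvPolynomial.IsHomogeneous.of_map hφ h2
  exact ⟨⟨q, hd⟩, Subtype.ext hq.symm⟩

end Forms

end Groth.Agent.Lefpen.H872.Indep
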