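import Groth.Agent.Divis.CartierData
import Groth.Agent.Divis.CartierStalk
import Groth.Agent.Sga5.ProjSmooth
import Groth.Agent.Lefpen.H705.ChartPoly
import Groth.Agent.Lefpen.H21.CiBase

/-!
# Complete intersections in projective space over an arbitrary ring

`R` any commutative ring, `G_j` homogeneous polynomials of degrees `a_j` in `r + 1` variables over `R`:

* `rhypIdeal G`, `rciIdeal G`: the ideal sheaf of `V_+(G)`, `⋂_j V_+(G_j)` in `P^r_R`; over a field these are
  `LefPen.hypIdeal` and `LefPen.ciIdeal` (`rciIdeal_eq`, by `rfl`).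
* `rhypIdeal_ideal_of_le`, `rciIdeal_ideal_of_le`: on an affine open of `D_+(T_j)` it is generated by the `G_i / T_j^{a_i}`.
* `comap_rciIdeal`, `isPullback_toSpec`: base change along any ring homomorphism.
* `toY`, `ker_toY`: the chart rings.
-/

set_option autoImplicit false
universe u

open CategoryTheory AlgebraicGeometry Limits TopologicalSpace Opposite

namespace Groth.Agent.Lefpen.H872.RelCI

open Groth.Agent.Divis.IdealComap Groth.Agent.Fdesc.LocGen Groth.Agent.Sga5

section Defs

variable {r : ℕ} {R : Type u} [CommRing R]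

theorem X_mem (r : ℕ) (R : Type u) [CommRing R] (i : Fin (r + 1)) :
    (MvPolynomial.X i : MvPolynomial (Fin (r + 1)) R) ∈ CohB1.polyGrading r R 1 :=
  (MvPolynomial.mem_homogeneousSubmodule 1 _).mpr (MvPolynomial.isHomogeneous_X R i)

/-- Forms of degree `d` over a ring. -/
abbrev RForm (r : ℕ) (R : Type u) [CommRing R] (d : ℕ) : Type u := ↥(CohB1.polyGrading r R d)

/-- The standard chart `D_+(T_i)`. -/
noncomputable abbrev rchart (r : ℕ) (R : Type u) [CommRing R] (i : Fin (r + 1)) : (CohB1.ProjSpace r R).Opens :=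
  Proj.basicOpen (CohB1.polyGrading r R) (MvPolynomial.X i)

/-- The function `G / T_i^d`. -/
noncomputable def rdehom {d : ℕ} (G : RForm r R d) (i : Fin (r + 1)) : Γ(CohB1.ProjSpace r R, rchart r R i) :=
  (Proj.awayToSection (CohB1.polyGrading r R) (MvPolynomial.X i)).hom
    (HomogeneousLocalization.Away.mk (CohB1.polyGrading r R) (X_mem r R i) d G.1
      (by rw [smul_eq_mul, mul_one]; exact G.2))

/-- Sections which are multiples of `G / T_i^d` on each chart. -/
noncomputable def rhypFamily {d : ℕ} (G : RForm r R d) (U : (CohB1.ProjSpace r R).affineOpens) :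
    Ideal Γ(CohB1.ProjSpace r R, U) :=
  ⨅ i : Fin (r + 1),
    Ideal.comap
      ((CohB1.ProjSpace r R).presheaf.map (homOfLE (inf_le_left : U.1 ⊓ rchart r R i ≤ U.1)).op).hom
      (Ideal.span {((CohB1.ProjSpace r R).presheaf.map
        (homOfLE (inf_le_right : U.1 ⊓ rchart r R i ≤ rchart r R i)).op).hom (rdehom G i)})

/-- The ideal sheaf of the hypersurface. -/
noncomputable def rhypIdeal {d : ℕ} (G : RForm r R d) : (CohB1.ProjSpace r R).IdealSheafData :=
  Scheme.IdealSheafData.ofIdeals (rhypFamily G)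

/-- The ideal sheaf of the complete intersection. -/
noncomputable def rciIdeal {ι : Type} {a : ι → ℕ} (G : ∀ j, RForm r R (a j)) : (CohB1.ProjSpace r R).IdealSheafData :=
  ⨆ j, rhypIdeal (G j)

end Defs

section Field

variable {r : ℕ} {k : Type u} [Field k]

theorem rhypIdeal_eq {d : ℕ} (G : LefPen.Form r k d) : rhypIdeal G = LefPen.hypIdeal G := rfl

theorem rciIdeal_eq {ι : Type} {a : ι → ℕ} (G : ∀ j, LefPen.Form r k (a j)) : rciIdeal G = LefPen.ciIdeal G := rfl

end Field

section Chart

variable {r : ℕ} {k : Type u} [CommRing k] {d : ℕ}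
theorem isAffineOpen_rchart (j : Fin (r + 1)) : IsAffineOpen (rchart r k j) := by
  rw [rchart, ← Groth.Agent.Sga5.ProjSmooth.opensRange_chart]
  exact isAffineOpen_opensRange _

theorem iSup_rchart : ⨆ j : Fin (r + 1), rchart r k j = ⊤ := by
  rw [eq_top_iff]
  intro x _
  obtain ⟨j, hj⟩ := Groth.Agent.PerfB.ProjSpaceCover.exists_mem_basicOpen_X r k x
  exact Opens.mem_iSup.mpr ⟨j, hj⟩

theorem pow_mem_primeCompl (i : Fin (r + 1)) (p : rchart r k i) (n : ℕ) :
    (MvPolynomial.X i ^ n : MvPolynomial (Fin (r + 1)) k) ∈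
      (ProjectiveSpectrum.asHomogeneousIdeal p.1).toIdeal.primeCompl :=
  fun h => p.2 ((ProjectiveSpectrum.isPrime p.1).mem_of_pow_mem _ h)

/-- The value of `G / T_i^d` at a point of `D_+(T_i)`, in the localization of the polynomial ring. -/
theorem dehom_val (G : RForm r k d) (i : Fin (r + 1)) (p : rchart r k i) :
    ((rdehom G i).1 p).val =
      Localization.mk G.1 ⟨MvPolynomial.X i ^ d, pow_mem_primeCompl i p d⟩ := by
  refine (ProjectiveSpectrum.Proj.awayToSection_apply (𝒜 := CohB1.polyGrading r k) _ _ _).trans ?_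
  rw [HomogeneousLocalization.Away.val_mk, Localization.mk_eq_mk', IsLocalization.map_mk',
    ← Localization.mk_eq_mk']
  rfl

/-- `T_j / T_i` as a function on `D_+(T_i)`. -/
noncomputable def ratio (i j : Fin (r + 1)) : Γ(CohB1.ProjSpace r k, rchart r k i) :=
  rdehom (⟨MvPolynomial.X j, X_mem r k j⟩ : RForm r k 1) i

theorem ores_val {U V : (CohB1.ProjSpace r k).Opens} (h : V ≤ U) (f : Γ(CohB1.ProjSpace r k, U)) (p : V) :
    (ores h f).1 p = f.1 ⟨p.1, h p.2⟩ := rfl

theorem section_ext {V : (CohB1.ProjSpace r k).Opens} (f g : Γ(CohB1.ProjSpace r k, V))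
    (h : ∀ p : V, (f.1 p).val = (g.1 p).val) : f = g := by
  apply Subtype.ext
  funext p
  exact HomogeneousLocalization.val_injective _ (h p)

/-- Change of chart. -/
theorem ores_dehom (G : RForm r k d) (i j : Fin (r + 1)) (V : (CohB1.ProjSpace r k).Opens)
    (hi : V ≤ rchart r k i) (hj : V ≤ rchart r k j) :
    ores hi (rdehom G i) = ores hi (ratio i j) ^ d * ores hj (rdehom G j) := by
  refine section_ext _ _ fun p => ?_
  have h1 : ((ores hi (ratio i j) ^ d * ores hj (rdehom G j)).1 p).val =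
      ((ratio i j).1 ⟨p.1, hi p.2⟩).val ^ d * ((rdehom G j).1 ⟨p.1, hj p.2⟩).val := by
    change ((((ratio i j).1 ⟨p.1, hi p.2⟩) ^ d) * ((rdehom G j).1 ⟨p.1, hj p.2⟩)).val = _
    rw [HomogeneousLocalization.val_mul, HomogeneousLocalization.val_pow]
  have h2 : ((ores hi (rdehom G i)).1 p).val = ((rdehom G i).1 ⟨p.1, hi p.2⟩).val := rfl
  rw [h1, h2, ratio, dehom_val, dehom_val, dehom_val, Localization.mk_pow, Localization.mk_mul,
    Localization.mk_eq_mk_iff, Localization.r_iff_exists]
  refine ⟨1, ?_⟩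
  simp only [OneMemClass.coe_one, Submonoid.coe_mul, SubmonoidClass.mk_pow, pow_one, one_mul]
  ring

theorem ores_ratio_mul (i j : Fin (r + 1)) (V : (CohB1.ProjSpace r k).Opens)
    (hi : V ≤ rchart r k i) (hj : V ≤ rchart r k j) :
    ores hi (ratio i j) * ores hj (ratio j i) = 1 := by
  refine section_ext _ _ fun p => ?_
  have h1 : ((ores hi (ratio i j) * ores hj (ratio j i)).1 p).val =
      ((ratio i j).1 ⟨p.1, hi p.2⟩).val * ((ratio j i).1 ⟨p.1, hj p.2⟩).val := by
    change (((ratio i j).1 ⟨p.1, hi p.2⟩) * ((ratio j i).1 ⟨p.1, hj p.2⟩)).val = _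
    rw [HomogeneousLocalization.val_mul]
  have h2 : ((1 : Γ(CohB1.ProjSpace r k, V)).1 p).val = 1 :=
    HomogeneousLocalization.val_one (x := (ProjectiveSpectrum.asHomogeneousIdeal p.1).toIdeal.primeCompl)
      (𝒜 := CohB1.polyGrading r k)
  rw [h1, h2, ratio, ratio, dehom_val, dehom_val, Localization.mk_mul, ← Localization.mk_one,
    Localization.mk_eq_mk_iff, Localization.r_iff_exists]
  refine ⟨1, ?_⟩
  simp only [OneMemClass.coe_one, Submonoid.coe_mul, pow_one, one_mul]
  ring

theorem isUnit_ores_ratio (i j : Fin (r + 1)) (V : (CohB1.ProjSpace r k).Opens)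
    (hi : V ≤ rchart r k i) (hj : V ≤ rchart r k j) : IsUnit (ores hi (ratio i j)) :=
  IsUnit.of_mul_eq_one _ (ores_ratio_mul i j V hi hj)

theorem span_ores_dehom (G : RForm r k d) (i j : Fin (r + 1)) (V : (CohB1.ProjSpace r k).Opens)
    (hi : V ≤ rchart r k i) (hj : V ≤ rchart r k j) :
    Ideal.span {ores hi (rdehom G i)} = Ideal.span {ores hj (rdehom G j)} := by
  rw [ores_dehom G i j V hi hj]
  exact Ideal.span_singleton_mul_left_unit ((isUnit_ores_ratio i j V hi hj).pow d) _

/-- The ideal sheaf of a hypersurface on an affine open of a standard chart. -/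
theorem rhypIdeal_ideal_of_le (G : RForm r k d) (j : Fin (r + 1))
    (U : (CohB1.ProjSpace r k).affineOpens) (hU : U.1 ≤ rchart r k j) :
    (rhypIdeal G).ideal U = Ideal.span {ores hU (rdehom G j)} := by
  obtain ⟨D, hD⟩ := Groth.Agent.Divis.CartierData.exists_ideal (X := CohB1.ProjSpace r k)
    (ι := ULift.{u} (Fin (r + 1))) (fun i => ⟨rchart r k i.down, isAffineOpen_rchart i.down⟩)
    (by
      rw [eq_top_iff, ← iSup_rchart (r := r) (k := k)]
      exact iSup_le fun j => le_iSup (fun i : ULift.{u} (Fin (r + 1)) => rchart r k i.down) ⟨j⟩)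
    (fun i => rdehom G i.down)
    (fun i j V hi hj => span_ores_dehom G i.down j.down V.1 hi hj)
  have h1 : D ≤ rhypIdeal G := by
    rw [rhypIdeal, Scheme.IdealSheafData.le_ofIdeals_iff]
    intro V
    refine le_iInf fun i => ?_
    have hsep : (CohB1.ProjSpace r k).IsSeparated :=
      inferInstanceAs (Scheme.IsSeparated (Proj (CohB1.polyGrading r k)))
    have haff : IsAffineOpen (V.1 ⊓ rchart r k i) := V.2.inf (isAffineOpen_rchart i)
    have h2 := D.ideal_le_comap_ideal (U := ⟨V.1 ⊓ rchart r k i, haff⟩) (V := V)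
      (show V.1 ⊓ rchart r k i ≤ V.1 from inf_le_left)
    rw [hD ⟨i⟩ ⟨V.1 ⊓ rchart r k i, haff⟩ inf_le_right] at h2
    exact h2
  refine le_antisymm ?_ ?_
  · refine (Scheme.IdealSheafData.ideal_ofIdeals_le (rhypFamily G) U).trans ?_
    refine (iInf_le _ j).trans ?_
    intro x hx
    rw [Ideal.mem_comap] at hx
    have hle : U.1 ≤ U.1 ⊓ rchart r k j := le_inf le_rfl hU
    have h3 := Ideal.mem_map_of_mem (ores hle) hx
    rw [Ideal.map_span, Set.image_singleton] at h3
    have h4 : ores hle (((CohB1.ProjSpace r k).presheaf.map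
        (homOfLE (inf_le_left : U.1 ⊓ rchart r k j ≤ U.1)).op).hom x) = x :=
      (ores_ores _ _ x).trans (ores_refl x)
    rw [h4] at h3
    have h5 : ores hle (((CohB1.ProjSpace r k).presheaf.map
        (homOfLE (inf_le_right : U.1 ⊓ rchart r k j ≤ rchart r k j)).op).hom (rdehom G j)) =
          ores hU (rdehom G j) :=
      ores_ores _ _ (rdehom G j)
    rw [h5] at h3
    exact h3
  · rw [← hD ⟨j⟩ U hU]
    exact h1 U


/-- Polynomials in the affine coordinates as functions on the chart. -/
noncomputable def polyToChart (j : Fin (r + 1)) :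
    MvPolynomial (Fin r) k →+* Γ(CohB1.ProjSpace r k, rchart r k j) :=
  (Proj.awayToSection (CohB1.polyGrading r k) (MvPolynomial.X j)).hom.comp (ProjChart.ofPoly r k j)

theorem polyToChart_bijective (j : Fin (r + 1)) :
    Function.Bijective (polyToChart (r := r) (k := k) j) := by
  have h1 : Function.Bijective (ProjChart.ofPoly r k j) := (ProjChart.chartEquiv r k j).bijective
  have h2 : IsIso (Proj.awayToSection (CohB1.polyGrading r k) (MvPolynomial.X j)) := by
    rw [← Proj.basicOpenIsoAway_hom (CohB1.polyGrading r k) (MvPolynomial.X j) (X_mem r k j) Nat.one_pos]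
    infer_instance
  have h3 := ConcreteCategory.bijective_of_isIso (Proj.awayToSection (CohB1.polyGrading r k) (MvPolynomial.X j))
  exact h3.comp h1

theorem ofPoly_dehom (G : RForm r k d) (j : Fin (r + 1)) :
    ProjChart.ofPoly r k j (ProjChart.dehom r k j G.1) =
      HomogeneousLocalization.Away.mk (CohB1.polyGrading r k) (X_mem r k j) d G.1
        (by rw [smul_eq_mul, mul_one]; exact G.2) := by
  apply HomogeneousLocalization.val_injective
  rw [HomogeneousLocalization.Away.val_mk]
  have h := ProjChart.val_ofPoly_dehom r k j d G.1 G.2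
  rw [Localization.mk_eq_mk', eq_comm, IsLocalization.mk'_eq_iff_eq_mul]
  exact h.symm

theorem dehom_eq (G : RForm r k d) (j : Fin (r + 1)) :
    rdehom G j = polyToChart j (ProjChart.dehom r k j G.1) :=
  congrArg (Proj.awayToSection (CohB1.polyGrading r k) (MvPolynomial.X j)).hom (ofPoly_dehom G j).symm

/-- The preimage of `D_+(T_j)` under the chart map is everything. -/
theorem top_le_preimage (j : Fin (r + 1)) :
    (⊤ : (Spec (CommRingCat.of (MvPolynomial (Fin r) k))).Opens) ≤
      (ProjSmooth.chart r k j) ⁻¹ᵁ (rchart r k j) := by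
  rw [rchart, ← ProjSmooth.opensRange_chart, Scheme.Hom.preimage_opensRange]

theorem chart_appLE_polyToChart (j : Fin (r + 1)) (p : MvPolynomial (Fin r) k) :
    ((ProjSmooth.chart r k j).appLE (rchart r k j) ⊤ (top_le_preimage j)).hom (polyToChart j p) =
      (Scheme.ΓSpecIso (CommRingCat.of (MvPolynomial (Fin r) k))).inv.hom p := by
  have h1 := Groth.Agent.Lefpen.H705.ChartPoly.awayToSection_awayι (CohB1.polyGrading r k) (X_mem r k j) Nat.one_pos
  have e : (⊤ : (Spec (CommRingCat.of (HomogeneousLocalization.Away (CohB1.polyGrading r k)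
      (MvPolynomial.X j)))).Opens) ≤
      (Proj.awayι (CohB1.polyGrading r k) (MvPolynomial.X j) (X_mem r k j) Nat.one_pos) ⁻¹ᵁ
        (Proj.basicOpen (CohB1.polyGrading r k) (MvPolynomial.X j)) := by
    rw [← Proj.opensRange_awayι (CohB1.polyGrading r k) _ (X_mem r k j) Nat.one_pos,
          Scheme.Hom.preimage_opensRange]
  have h2 := Scheme.Hom.appLE_comp_appLE (Spec.map (CommRingCat.ofHom (ProjChart.chartEquiv r k j).symm.toRingHom))
    (Proj.awayι (CohB1.polyGrading r k) (MvPolynomial.X j) (X_mem r k j) Nat.one_pos)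
    (Proj.basicOpen (CohB1.polyGrading r k) (MvPolynomial.X j)) ⊤ ⊤ e le_top
  have h3 : (ProjSmooth.chart r k j).appLE (rchart r k j) ⊤ (top_le_preimage j) = _ := h2.symm
  have h4 : (Proj.awayToSection (CohB1.polyGrading r k) (MvPolynomial.X j)) ≫
      (ProjSmooth.chart r k j).appLE (rchart r k j) ⊤ (top_le_preimage j) =
      CommRingCat.ofHom (ProjChart.chartEquiv r k j).symm.toRingHom ≫
        (Scheme.ΓSpecIso (CommRingCat.of (MvPolynomial (Fin r) k))).inv := by
    rw [h3]
    refine (Category.assoc _ _ _).symm.trans ?_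
    refine (congrArg (· ≫ _) h1).trans ?_
    exact (Scheme.ΓSpecIso_inv_naturality _).symm
  have h5 := congr($(h4).hom (ProjChart.ofPoly r k j p))
  refine h5.trans ?_
  change (Scheme.ΓSpecIso (CommRingCat.of (MvPolynomial (Fin r) k))).inv.hom
    ((ProjChart.chartEquiv r k j).symm (ProjChart.chartEquiv r k j p)) = _
  rw [RingEquiv.symm_apply_apply]

theorem chart_appLE_dehom (G : RForm r k d) (j : Fin (r + 1)) :
    ((ProjSmooth.chart r k j).appLE (rchart r k j) ⊤ (top_le_preimage j)).hom (rdehom G j) =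
      (Scheme.ΓSpecIso (CommRingCat.of (MvPolynomial (Fin r) k))).inv.hom (ProjChart.dehom r k j G.1) := by
  rw [dehom_eq, chart_appLE_polyToChart]


end Chart

end Groth.Agent.Lefpen.H872.RelCI
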